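import Cfsg.Agent.Lib.FG.Count
import Cfsg.Agent.Lib.Small.Simple
import Cfsg.Agent.S4377

/-!
# Numbers of elements of a given order
-/

set_option autoImplicit false

namespace Cfsg.Lib.Nse

open Subgroup

/-- The number of elements of order `k`. -/
noncomputable def nm (G : Type*) [Group G] (k : ℕ) : ℕ := Nat.card {g : G // orderOf g = k}

variable {G : Type*} [Group G] [Finite G]

omit [Finite G] in
theorem nm_one : nm G 1 = 1 := by
  have : Unique {g : G // orderOf g = 1} :=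
    ⟨⟨⟨1, orderOf_one⟩⟩, fun a => Subtype.ext (orderOf_eq_one_iff.1 a.2)⟩
  exact Nat.card_unique

theorem tot_dvd (k : ℕ) : k.totient ∣ nm G k := by
  unfold nm; rw [FG.card_orderOf_eq]; exact dvd_mul_left _ _

theorem frob {n : ℕ} (h : n ∣ Nat.card G) : n ∣ ∑ d ∈ n.divisors, nm G d := by
  have := FG.frobenius h
  rwa [Cfsg.Agent.S4377.aux (ne_zero_of_dvd_ne_zero Nat.card_pos.ne' h)] at this

theorem card_eq {n : ℕ} (hn : n ≠ 0) (h : Nat.card G ∣ n) : Nat.card G = ∑ d ∈ n.divisors, nm G d := by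
  have := Cfsg.Agent.S4377.aux (G := G) hn
  rw [← Cfsg.Agent.S4377.aux1 hn h] at this
  simp only [pow_zero] at this
  refine Eq.trans ?_ this
  exact (Nat.card_congr (Equiv.subtypeUnivEquiv fun _ => trivial)).symm

theorem nm_ne {k : ℕ} : nm G k ≠ 0 ↔ ∃ g : G, orderOf g = k := by
  unfold nm
  rw [Nat.card_ne_zero]
  exact ⟨fun ⟨⟨g⟩, _⟩ => ⟨g.1, g.2⟩, fun ⟨g, h⟩ => ⟨⟨⟨g, h⟩⟩, inferInstance⟩⟩

theorem nm_dvd {k : ℕ} (h : nm G k ≠ 0) : k ∣ Nat.card G := by
  obtain ⟨g, rfl⟩ := nm_ne.1 h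
  exact orderOf_dvd_natCard g

theorem nm_zero {a b : ℕ} (h : nm G a = 0) (hab : a ∣ b) : nm G b = 0 := by
  by_contra hb
  obtain ⟨g, rfl⟩ := nm_ne.1 hb
  exact nm_ne.2 ⟨_, orderOf_pow_orderOf_div (orderOf_pos g).ne' hab⟩ h

theorem nm_prime {p : ℕ} (hp : p.Prime) (h : p ∣ Nat.card G) : nm G p ≠ 0 :=
  have := Fact.mk hp
  nm_ne.2 (exists_prime_orderOf_dvd_card' p h)

theorem prime_dvd {p : ℕ} (hp : p.Prime) (h : p ∣ Nat.card G) : p ∣ 1 + nm G p ∧ p - 1 ∣ nm G p := by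
  have h1 := frob h
  rw [hp.divisors, Finset.sum_pair hp.one_lt.ne, nm_one] at h1
  exact ⟨h1, Nat.totient_prime hp ▸ tot_dvd p⟩

theorem even_nm {k : ℕ} (h : 2 < k) : 2 ∣ nm G k := (Nat.totient_even h).two_dvd.trans (tot_dvd k)

theorem nm_zero' : nm G 0 = 0 := Cfsg.Agent.S4377.aux0

theorem sum_le (S : Finset ℕ) (h : ∀ s ∈ S, ∃ k, nm G k = s) : ∑ s ∈ S, s ≤ Nat.card G := by
  classical
  choose! k hk using h
  rw [card_eq Nat.card_pos.ne' dvd_rfl, ← Finset.sum_congr rfl hk, ← Finset.sum_image (g := k) (f := nm G)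
    fun a ha b hb e => by rw [← hk a ha, ← hk b hb, e]]
  refine Finset.sum_le_sum_of_ne_zero fun d _ hd => Nat.mem_divisors.2 ⟨nm_dvd hd, Nat.card_pos.ne'⟩

/-- A Sylow subgroup acting semiregularly. -/
theorem semi' {p a : ℕ} (hp : p.Prime) (h : p ^ a ∣ Nat.card G) (Q : G → Prop) (hQ : ∀ x g, Q (g * x * g⁻¹) ↔ Q x)
    (h1 : ∀ x, Q x → ¬ p ∣ orderOf x ∧ nm G (p * orderOf x) = 0) : p ^ a ∣ Nat.card {x // Q x} := by
  classical
  have := Fintype.ofFinite G
  have := Fact.mk hp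
  have e : Nat.card {x // Q x} = ∑ x, if Q x then 1 else 0 := by
    rw [Nat.card_eq_fintype_card, Fintype.card_subtype, Finset.card_filter]
  rw [e]
  refine FG.dvd_sum_of_class _ _ (fun x g => by simp only [hQ]) fun x => ?_
  split_ifs with hx
  · rw [mul_one]
    rw [← card_mul_index (centralizer {x})] at h
    refine (Nat.Coprime.pow_left a ((Nat.Prime.coprime_iff_not_dvd hp).2 fun hd => ?_)).dvd_of_dvd_mul_left h
    obtain ⟨y, hy⟩ := exists_prime_orderOf_dvd_card' p hd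
    have hc : Commute (y : G) x := (mem_centralizer_iff.1 y.2 x rfl).symm
    refine nm_ne.2 ⟨y * x, ?_⟩ (h1 x hx).2
    rw [hc.orderOf_mul_eq_mul_orderOf_of_coprime, orderOf_coe, hy]
    rw [orderOf_coe, hy]
    exact (Nat.Prime.coprime_iff_not_dvd hp).2 (h1 x hx).1
  · simp

theorem semi {p a k n : ℕ} (hp : p.Prime) (h : p ^ a ∣ Nat.card G) (hk : ¬ p ∣ k) (hn : p * k = n) (h0 : nm G n = 0) :
    p ^ a ∣ nm G k :=
  semi' hp h _ (fun x g => by rw [← MulAut.conj_apply, MulEquiv.orderOf_eq]) fun x hx => by rw [hx, hn]; exact ⟨hk, h0⟩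

theorem semiK {p : ℕ} (hp : p.Prime) (h : p ∣ Nat.card G) (K : Subgroup G) [hK : K.Normal] {k : ℕ} (hk : ¬ p ∣ k)
    (h0 : nm G (p * k) = 0) : p ∣ nm K k := by
  have := semi' (a := 1) hp (by rwa [pow_one]) (fun x => x ∈ K ∧ orderOf x = k) (fun x g => by
    rw [← MulAut.conj_apply, MulEquiv.orderOf_eq, MulAut.conj_apply, hK.mem_comm_iff]; simp)
    fun x hx => by rw [hx.2]; exact ⟨hk, h0⟩
  rw [pow_one, ← FG.card_sub K fun x => orderOf x = k] at this
  simpa only [nm, orderOf_coe] using this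

omit [Finite G] in
theorem nm_normal {k : ℕ} (K : Subgroup G) [K.Normal] (h : k.Coprime K.index) : nm K k = nm G k := by
  unfold nm
  simp only [← orderOf_coe]
  rw [FG.card_sub K fun x => orderOf x = k]
  refine Nat.card_congr (Equiv.subtypeEquivRight fun x => ⟨And.right, fun hx => ⟨?_, hx⟩⟩)
  rw [← QuotientGroup.eq_one_iff, ← orderOf_eq_one_iff]
  exact Nat.eq_one_of_dvd_coprimes h (hx ▸ orderOf_map_dvd (QuotientGroup.mk' K) x) (orderOf_dvd_natCard _)

/-- Cyclic Sylow subgroups of order `p ^ 2`. -/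
theorem cyc {p : ℕ} (hp : p.Prime) (h : nm G (p ^ 2) ≠ 0) (h3 : ¬ p ^ 3 ∣ Nat.card G) : 2 * nm G p ≤ nm G (p ^ 2) := by
  classical
  have := Fintype.ofFinite G
  have := Fact.mk hp
  obtain ⟨x, hx⟩ := nm_ne.1 h
  have h2 : ∀ y : G, orderOf y = p → ∃ z : G, orderOf z = p ^ 2 ∧ z ^ p = y := fun y hy => by
    have hi : ¬ p ∣ (zpowers x).index := fun hd => h3 (by
      rw [← card_mul_index (zpowers x), Nat.card_zpowers, hx, pow_succ p 2]; exact Nat.mul_dvd_mul_left _ hd)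
    let P := (IsPGroup.of_card (n := 2) (by rw [Nat.card_zpowers, hx])).toSylow hi
    obtain ⟨Q, hQ⟩ := (IsPGroup.of_card (G := zpowers y) (n := 1) (by rw [Nat.card_zpowers, hy, pow_one])).exists_le_sylow
    obtain ⟨g, rfl⟩ := MulAction.exists_smul_eq G P Q
    have hm := hQ (mem_zpowers y)
    rw [Sylow.coe_subgroup_smul, Subgroup.mem_pointwise_smul_iff_inv_smul_mem] at hm
    obtain ⟨j, hj⟩ := (mem_powers_iff_mem_zpowers.2 hm : _ ∈ Submonoid.powers x)
    simp only at hj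
    have ho : orderOf (x ^ j) = p := by rw [hj, MulAut.smul_def, MulEquiv.orderOf_eq, hy]
    have hpj : p ∣ j := by
      by_contra hn
      rw [((Nat.Coprime.pow_left 2 ((Nat.Prime.coprime_iff_not_dvd hp).2 hn)) : _ = 1) |> fun e =>
        Nat.Coprime.orderOf_pow (y := x) (m := j) (by rw [hx]; exact e), hx] at ho
      have := hp.one_lt
      nlinarith
    obtain ⟨i, rfl⟩ := hpj
    have hi' : ¬ p ∣ i := by
      rintro ⟨l, rfl⟩
      rw [← mul_assoc, ← sq, ← hx, pow_mul, pow_orderOf_eq_one, one_pow, orderOf_one] at ho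
      exact hp.one_lt.ne ho
    refine ⟨MulAut.conj g (x ^ i), ?_, ?_⟩
    · rw [MulEquiv.orderOf_eq, Nat.Coprime.orderOf_pow (by
        rw [hx]; exact Nat.Coprime.pow_left 2 ((Nat.Prime.coprime_iff_not_dvd hp).2 hi')), hx]
    · rw [← map_pow, ← pow_mul, mul_comm i, hj, MulAut.smul_def, ← MulAut.mul_apply, mul_inv_cancel, MulAut.one_apply]
  have e : ∀ k, nm G k = (Finset.univ.filter fun g : G => orderOf g = k).card := fun k => by
    rw [nm, Nat.card_eq_fintype_card, Fintype.card_subtype]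
  rw [e, e]
  refine le_trans (Nat.mul_le_mul_left 2 (Finset.card_le_card (t := (Finset.univ.filter fun g : G => orderOf g = p ^ 2).image
    (· ^ p)) fun y hy => ?_)) (Finset.mul_card_image_le_card _ 2 fun y hy => ?_)
  · obtain ⟨z, h1, h2⟩ := h2 y (Finset.mem_filter.1 hy).2
    exact Finset.mem_image.2 ⟨z, by simpa using h1, h2⟩
  · obtain ⟨z, h1, rfl⟩ := Finset.mem_image.1 hy
    have h1 := (Finset.mem_filter.1 h1).2
    refine Finset.one_lt_card.2 ⟨z, by simpa using h1, z ^ (p + 1), ?_, fun e => ?_⟩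
    · simp only [Finset.mem_filter, Finset.mem_univ, true_and]
      refine ⟨?_, ?_⟩
      · rw [Nat.Coprime.orderOf_pow (by rw [h1]; exact Nat.Coprime.pow_left 2 (by simp)), h1]
      · rw [← pow_mul, add_mul, ← sq, ← h1, pow_add, pow_orderOf_eq_one, one_mul, one_mul]
    · rw [pow_succ, eq_comm, mul_eq_right, ← orderOf_dvd_iff_pow_eq_one, h1] at e
      have := Nat.le_of_dvd hp.pos e
      have := hp.one_lt
      nlinarith

theorem syl {p : ℕ} (hp : p.Prime) (h1 : p ∣ Nat.card G) (h2 : ¬ p ^ 2 ∣ Nat.card G) :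
    ∃ n, n ∣ Nat.card G ∧ nm G p = n * (p - 1) := by
  have := Fact.mk hp
  obtain ⟨P⟩ : Nonempty (Sylow p G) := inferInstance
  refine ⟨_, P.card_dvd_index.trans (index_dvd_card _), Small.card_orderOf_eq_prime P ?_⟩
  rw [P.card_eq_multiplicity]
  have a := (hp.dvd_iff_one_le_factorization Nat.card_pos.ne').1 h1
  have b := (hp.pow_dvd_iff_le_factorization (k := 2) Nat.card_pos.ne').not.1 h2
  rw [show (Nat.card G).factorization p = 1 by omega, pow_one]

theorem dvd_of {N a b c : ℕ} (h : ∀ p, p.Prime → p ∣ N → p = 2 ∨ p = 3 ∨ p = 5) (h2 : ¬ 2 ^ (a + 1) ∣ N)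
    (h3 : ¬ 3 ^ (b + 1) ∣ N) (h5 : ¬ 5 ^ (c + 1) ∣ N) : N ∣ 2 ^ a * 3 ^ b * 5 ^ c := by
  refine (Nat.dvd_iff_prime_pow_dvd_dvd _ _).2 fun p k hp hk => ?_
  rcases k with _ | k
  · simp
  have l : ∀ {q d}, ¬ q ^ (d + 1) ∣ N → q ^ (k + 1) ∣ N → q ^ (k + 1) ∣ q ^ d := fun h h' =>
    pow_dvd_pow _ (by by_contra e; exact h ((pow_dvd_pow _ (by omega)).trans h'))
  rcases h p hp ((dvd_pow_self p k.succ_ne_zero).trans hk) with rfl | rfl | rfl
  · exact (l h2 hk).trans ((dvd_mul_right _ _).trans (dvd_mul_right _ _))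
  · exact (l h3 hk).trans ((dvd_mul_left _ _).trans (dvd_mul_right _ _))
  · exact (l h5 hk).trans (dvd_mul_left _ _)

end Cfsg.Lib.Nse
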