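import Cfsg.Agent.Lib.Nse.A
import Cfsg.Agent.Lib.Linear.SmallRec
import Cfsg.Agent.S0497

/-!
# Recognition of `A₄`, `A₅`, `A₆` by the numbers of elements of the same order
-/

set_option autoImplicit false

namespace Cfsg.Lib.Nse

open Subgroup

variable {G : Type*} [Group G] [Finite G]

theorem odd_two {s : ℕ} (h : ∃ k, nm G k = s) (h1 : s ≠ 1) (h2 : ¬ 2 ∣ s) : nm G 2 = s := by
  obtain ⟨k, rfl⟩ := h
  have : ¬ 2 < k := fun e => h2 (even_nm e)
  have h0 : k ≠ 0 := by rintro rfl; rw [nm_zero'] at h2; omega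
  have h3 : k ≠ 1 := by rintro rfl; exact h1 nm_one
  rw [show k = 2 by omega]

theorem simple_of (h5 : 5 ∣ Nat.card G) (h25 : ¬ 25 ∣ Nat.card G) (hp : ∀ p, p.Prime → p ∣ Nat.card G → p = 2 ∨ p = 3 ∨ p = 5)
    (h10 : nm G 10 = 0) (h15 : nm G 15 = 0) (hd : ∀ d, d ∣ Nat.card G → ¬ 5 ∣ d → 5 ∣ d - 1 → d = 1 ∨ d = 6 ∨
      (¬ 3 ∣ Nat.card G / d ∧ d < nm G 3))
    (hd' : ∀ d, d ∣ Nat.card G → nm G 5 < d → d = Nat.card G ∨ (¬ 3 ∣ Nat.card G / d ∧ d < nm G 3 + nm G 5)) :
    IsSimpleGroup G := by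
  have : Nontrivial G := Finite.one_lt_card_iff_nontrivial.1 (by have := Nat.le_of_dvd Nat.card_pos h5; omega)
  refine ⟨fun K hK => ?_⟩
  have hi : Nat.card G / Nat.card K = K.index := by rw [← card_mul_index K, Nat.mul_div_cancel_left _ Nat.card_pos]
  have l3 : ¬ 3 ∣ K.index → nm K 3 = nm G 3 := fun h => nm_normal K ((Nat.Prime.coprime_iff_not_dvd (by norm_num)).2 h)
  have hs : ∀ a b, a ≠ b → nm K a + nm K b ≤ Nat.card K := fun a b hab => by
    rw [card_eq (G := K) Nat.card_pos.ne' dvd_rfl, ← Finset.sum_pair (f := nm K) hab]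
    exact Finset.sum_le_sum_of_ne_zero fun d _ hd => Nat.mem_divisors.2 ⟨nm_dvd hd, Nat.card_pos.ne'⟩
  by_cases h : 5 ∣ Nat.card K
  · have h1 : nm K 5 = nm G 5 := nm_normal K ((Nat.Prime.coprime_iff_not_dvd (by norm_num)).2 fun e => h25 (by
      rw [← card_mul_index K]; exact mul_dvd_mul h e))
    have h2 := hs 1 5 (by norm_num)
    rw [nm_one] at h2
    rcases hd' _ (card_subgroup_dvd_card K) (by omega) with e | ⟨e, e'⟩
    · exact .inr (eq_top_of_card_eq K e)
    · have := hs 3 5 (by norm_num)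
      rw [l3 (hi ▸ e)] at this
      omega
  · have h1 : 5 ∣ Nat.card K - 1 := by
      have := semi' (a := 1) (by norm_num : Nat.Prime 5) h5 (fun x => x ∈ K ∧ ¬ x = 1) (fun x g => by
        rw [conj_eq_one_iff, mul_assoc, hK.mem_comm_iff]; simp) fun x hx => ⟨fun e => h (e.trans (K.orderOf_dvd_natCard hx.1)), by
          have h1 : orderOf x ≠ 1 := fun e => hx.2 (orderOf_eq_one_iff.1 e)
          have h2 := Nat.minFac_dvd (orderOf x)
          rcases hp _ (Nat.minFac_prime h1) (h2.trans (orderOf_dvd_natCard x)) with e | e | e <;> rw [e] at h2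
          · exact nm_zero h10 (Nat.mul_dvd_mul_left 5 h2)
          · exact nm_zero h15 (Nat.mul_dvd_mul_left 5 h2)
          · exact absurd (h2.trans (K.orderOf_dvd_natCard hx.1)) h⟩
      rw [pow_one, ← FG.card_sub K fun x => ¬ x = 1] at this
      classical
      have _i := Fintype.ofFinite K
      simpa [Fintype.card_subtype_compl, Fintype.card_subtype_eq] using this
    rcases hd _ (card_subgroup_dvd_card K) h h1 with e | e | ⟨e, e'⟩
    · exact .inl (card_eq_one.1 e)
    · have a := semiK (by norm_num : Nat.Prime 5) h5 K (k := 2) (by norm_num) h10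
      have b := semiK (by norm_num : Nat.Prime 5) h5 K (k := 3) (by norm_num) h15
      have c := nm_prime (G := K) Nat.prime_two (by omega)
      have d := nm_prime (G := K) Nat.prime_three (by omega)
      have := hs 2 3 (by norm_num)
      omega
    · have := hs 1 3 (by norm_num)
      rw [l3 (hi ▸ e)] at this
      omega

theorem fr {n : ℕ} (l : List ℕ) (h : n ∣ Nat.card G) (hl : l.Nodup ∧ n.divisors = l.toFinset := by decide) :
    n ∣ (l.map (nm G)).foldr (· + ·) 0 := by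
  have := frob h
  rwa [hl.2, List.sum_toFinset _ hl.1] at this

theorem ce {n : ℕ} (l : List ℕ) (h : Nat.card G ∣ n) (hl : n ≠ 0 ∧ l.Nodup ∧ n.divisors = l.toFinset := by decide) :
    Nat.card G = (l.map (nm G)).foldr (· + ·) 0 := by
  have := card_eq hl.1 h
  rwa [hl.2.2, List.sum_toFinset _ hl.2.1] at this

theorem td (k t : ℕ) (h : k.totient = t := by decide) : t ∣ nm G k := h ▸ tot_dvd k

theorem four (h : ∀ k, nm G k = 0 ∨ nm G k ∈ ({1, 3, 8} : Finset ℕ)) (h' : ∀ s ∈ ({1, 3, 8} : Finset ℕ), ∃ k, nm G k = s) :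
    Nonempty (G ≃* alternatingGroup (Fin 4)) := by
  have m1 := nm_one (G := G)
  have m2 := odd_two (h' 3 (by simp)) (by norm_num) (by norm_num)
  have hk : ∀ k, 2 < k → nm G k = 0 ∨ nm G k = 8 := fun k hk => by
    have := even_nm (G := G) hk
    have := h k
    simp only [Finset.mem_insert, Finset.mem_singleton] at this
    omega
  have hN : 12 ≤ Nat.card G := sum_le _ h'
  have d2 : 2 ∣ Nat.card G := nm_dvd (by omega)
  have hp : ∀ p, p.Prime → p ∣ Nat.card G → p = 2 ∨ p = 3 ∨ p = 5 := fun p hp hd => by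
    by_cases e : p = 2
    · exact .inl e
    have h1 := prime_dvd hp hd
    have h2 := nm_prime hp hd
    have h3 := hp.two_le
    rw [(hk p (by omega)).resolve_left h2] at h1
    exact .inr (.inl ((Nat.prime_dvd_prime_iff_eq hp Nat.prime_three).1 (hp.dvd_of_dvd_pow (n := 2) h1.1)))
  have m9 : nm G 9 = 0 := by
    have := td (G := G) 9 6
    have := hk 9 (by norm_num)
    omega
  have a : ¬ 8 ∣ Nat.card G := fun e => by
    have := fr [1, 2, 4, 8] e
    simp only [List.map, List.foldr] at this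
    have := hk 4 (by norm_num)
    have := hk 8 (by norm_num)
    omega
  have b : ¬ 9 ∣ Nat.card G := fun e => by
    have := fr [1, 2, 3, 6, 9, 18] (show 18 ∣ Nat.card G by omega)
    simp only [List.map, List.foldr] at this
    have := hk 3 (by norm_num)
    have := hk 6 (by norm_num)
    have := nm_zero m9 (by norm_num : 9 ∣ 18)
    omega
  have c : ¬ 5 ∣ Nat.card G := fun e => by
    have := (prime_dvd (by norm_num) e).1
    have := hk 5 (by norm_num)
    omega
  have hc : Nat.card G = 12 := le_antisymm (Nat.le_of_dvd (by norm_num) (dvd_of (a := 2) (b := 1) (c := 0) hp a b c)) hN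
  refine Linear.nonempty_equiv_A4 hc fun g hg => ?_
  have h1 := nm_ne.2 ⟨g, hg⟩
  have h2 := nm_prime (G := G) Nat.prime_three (by omega)
  have h3 := ce (G := G) (n := 12) [1, 2, 3, 4, 6, 12] hc.dvd
  simp only [List.map, List.foldr] at h3
  have := hk 3 (by norm_num)
  omega

/-- The data for `A₅`. -/
structure H5 (G : Type*) [Group G] : Prop where
  m2 : nm G 2 = 15
  hk : ∀ k, 2 < k → nm G k = 0 ∨ nm G k = 20 ∨ nm G k = 24
  hN : 60 ≤ Nat.card G
  h20 : ∃ k, nm G k = 20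

namespace H5

variable (H : H5 G)
include H

theorem d2 : 2 ∣ Nat.card G := nm_dvd (by have := H.m2; omega)

theorem hp (p : ℕ) (hp : p.Prime) (hd : p ∣ Nat.card G) : p = 2 ∨ (p = 3 ∧ nm G 3 = 20) ∨ (p = 5 ∧ nm G 5 = 24) := by
  by_cases e : p = 2
  · exact .inl e
  have h1 := prime_dvd hp hd
  have h2 := nm_prime hp hd
  have h3 := hp.two_le
  rcases (H.hk p (by omega)).resolve_left h2 with h4 | h4 <;> rw [h4] at h1
  · rcases (by decide : ∀ p < 22, 1 < p → p ∣ 1 + 20 ∧ p - 1 ∣ 20 → p = 3 ∨ p = 21) p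
      (Nat.lt_succ_of_le (Nat.le_of_dvd (by norm_num) h1.1)) h3 h1 with rfl | rfl
    · exact .inr (.inl ⟨rfl, h4⟩)
    · norm_num at hp
  · obtain rfl := (Nat.prime_dvd_prime_iff_eq hp Nat.prime_five).1 (hp.dvd_of_dvd_pow (n := 2) h1.1)
    exact .inr (.inr ⟨rfl, h4⟩)

theorem hp' (p : ℕ) (h1 : p.Prime) (h2 : p ∣ Nat.card G) : p = 2 ∨ p = 3 ∨ p = 5 := by
  have := H.hp p h1 h2; omega

theorem m3 (e : 3 ∣ Nat.card G) : nm G 3 = 20 := by have := H.hp 3 (by norm_num) e; omega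

theorem m5 (e : 5 ∣ Nat.card G) : nm G 5 = 24 := by have := H.hp 5 (by norm_num) e; omega

theorem m32 : nm G 32 = 0 := by
  have := td (G := G) 32 16
  have := H.hk 32 (by norm_num)
  omega

theorem two : (nm G 4 = 0 ∧ nm G 8 = 0 ∧ nm G 16 = 0) ∨ ((nm G 4 = 20 ∨ nm G 4 = 24) ∧ ((nm G 8 = 0 ∧ nm G 16 = 0) ∨
    ((nm G 8 = 20 ∨ nm G 8 = 24) ∧ (nm G 16 = 0 ∨ nm G 16 = 24)))) := by
  have k4 := H.hk 4 (by norm_num)
  have k8 := H.hk 8 (by norm_num)
  have k16 := H.hk 16 (by norm_num)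
  have t16 := td (G := G) 16 8
  have z8 : nm G 4 = 0 → nm G 8 = 0 := fun e => nm_zero e (by norm_num)
  have z16 : nm G 8 = 0 → nm G 16 = 0 := fun e => nm_zero e (by norm_num)
  omega

theorem a : ¬ 128 ∣ Nat.card G := fun e => by
  have := fr [1, 2, 4, 8, 16, 32, 64, 128] e
  simp only [List.map, List.foldr] at this
  rw [nm_zero H.m32 (by norm_num : 32 ∣ 128), nm_zero H.m32 (by norm_num : 32 ∣ 64), H.m32, nm_one, H.m2] at this
  have := H.two
  omega

theorem b : ¬ 9 ∣ Nat.card G := fun e => by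
  have h1 := fr [1, 3, 9] e
  have m3 := H.m3 (by omega)
  have := H.hk 9 (by norm_num)
  have := td (G := G) 9 6
  simp only [List.map, List.foldr, nm_one] at h1
  have := cyc (G := G) Nat.prime_three (show nm G 9 ≠ 0 by omega) fun e => by
    have h2 := fr [1, 3, 9, 27] e
    have := H.hk 27 (by norm_num)
    have := td (G := G) 27 18
    simp only [List.map, List.foldr, nm_one] at h2
    omega
  change _ ≤ nm G 9 at this
  omega

theorem m25 : nm G 25 = 0 := by
  by_contra e0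
  have e := nm_dvd e0
  have h1 := fr [1, 5, 25] e
  have := H.m5 (by omega)
  have := H.hk 25 (by norm_num)
  simp only [List.map, List.foldr, nm_one] at h1
  omega

theorem c : ¬ 125 ∣ Nat.card G := fun e => by
  have h1 := fr [1, 5, 25, 125] e
  simp only [List.map, List.foldr, nm_one, H.m25, nm_zero H.m25 (by norm_num : 25 ∣ 125), H.m5 (by omega)] at h1
  omega

theorem n35 (d3 : ¬ 3 ∣ Nat.card G) : 5 ∣ Nat.card G := by
  by_contra d5
  have h1 := dvd_of (a := 6) (b := 0) (c := 0) H.hp' H.a d3 d5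
  have h3 := ce (G := G) (n := 64) [1, 2, 4, 8, 16, 32, 64] h1
  have m64 := nm_zero H.m32 (by norm_num : 32 ∣ 64)
  have h5 := (by decide : ∀ n < 65, n ∣ 64 → 60 ≤ n → n = 64) _ (Nat.lt_succ_of_le (Nat.le_of_dvd (by norm_num) h1)) h1 H.hN
  simp only [List.map, List.foldr, nm_one, H.m2, H.m32, m64, h5] at h3
  obtain ⟨k, hk⟩ := H.h20
  have h4 : k ∣ 64 := (nm_dvd (by omega)).trans h1
  have := H.two
  have := H.m2
  have := H.m32
  have := nm_one (G := G)
  rcases (by decide : ∀ n < 65, n ∣ 64 → n = 1 ∨ n = 2 ∨ n = 4 ∨ n = 8 ∨ n = 16 ∨ n = 32 ∨ n = 64) k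
    (Nat.lt_succ_of_le (Nat.le_of_dvd (by norm_num) h4)) h4 with rfl | rfl | rfl | rfl | rfl | rfl | rfl <;> omega

theorem d3 : 3 ∣ Nat.card G := by
  by_contra d3
  have d5 := H.n35 d3
  have m5 := H.m5 d5
  have m2 := H.m2
  have hN := H.hN
  have m10 : nm G 10 = 20 := by
    have h1 := fr [1, 2, 5, 10] (show 10 ∣ Nat.card G by have := H.d2; omega)
    simp only [List.map, List.foldr, nm_one] at h1
    have k10 := H.hk 10 (by norm_num)
    by_contra e
    have h2 : nm G 10 = 0 := by omega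
    have := Nat.le_of_dvd (by norm_num) (dvd_of (a := 3) (b := 0) (c := 1) H.hp'
      (fun e => by have := semi Nat.prime_two e (k := 5) (by norm_num) rfl h2; omega) d3
      fun e => by have := semi Nat.prime_five e (k := 2) (by norm_num) rfl h2; omega)
    omega
  have d4 : 4 ∣ Nat.card G := by
    by_contra e
    have := Nat.le_of_dvd (by norm_num) (dvd_of (a := 1) (b := 0) (c := 2) H.hp' e d3 H.c)
    omega
  have m20 : nm G 20 = 0 := by
    have h2 := fr [1, 2, 4, 5, 10, 20] (show 20 ∣ Nat.card G by omega)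
    simp only [List.map, List.foldr, nm_one] at h2
    have k20 := H.hk 20 (by norm_num)
    have k20 := H.hk 4 (by norm_num)
    have := td (G := G) 20 8
    omega
  have h3 := ce (G := G) (n := 1600) [1, 2, 4, 5, 8, 10, 16, 20, 25, 32, 40, 50, 64, 80, 100, 160, 200, 320, 400, 800, 1600]
    (dvd_of (a := 6) (b := 0) (c := 2) H.hp' H.a d3 H.c) (by decide +kernel)
  simp only [List.map, List.foldr, nm_one, m2, m5, m10, m20, H.m25, H.m32, nm_zero H.m32 (by norm_num : 32 ∣ 64),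
    nm_zero m20 (by norm_num : 20 ∣ 40), nm_zero m20 (by norm_num : 20 ∣ 80), nm_zero m20 (by norm_num : 20 ∣ 100),
    nm_zero m20 (by norm_num : 20 ∣ 160), nm_zero m20 (by norm_num : 20 ∣ 200), nm_zero m20 (by norm_num : 20 ∣ 320),
    nm_zero m20 (by norm_num : 20 ∣ 400), nm_zero m20 (by norm_num : 20 ∣ 800), nm_zero m20 (by norm_num : 20 ∣ 1600),
    nm_zero H.m25 (by norm_num : 25 ∣ 50)] at h3
  have t4 : 5 ∣ nm G 4 := semi (a := 1) Nat.prime_five d5 (k := 4) (by norm_num) rfl m20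
  have t8 : 5 ∣ nm G 8 := semi (a := 1) Nat.prime_five d5 (k := 8) (by norm_num) rfl (nm_zero m20 (by norm_num))
  have t16 : 5 ∣ nm G 16 := semi (a := 1) Nat.prime_five d5 (k := 16) (by norm_num) rfl (nm_zero m20 (by norm_num))
  have h4 : nm G 8 ≠ 0 → 8 ∣ Nat.card G := nm_dvd
  have h5 := H.two
  have h6 : Nat.card G = 80 ∧ nm G 4 = 20 ∧ nm G 8 = 0 ∧ nm G 16 = 0 := by omega
  have h7 := fr [1, 2, 4, 8, 16] (show 16 ∣ Nat.card G by omega)
  simp only [List.map, List.foldr, nm_one, m2, h6] at h7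
  omega

theorem d5 : 5 ∣ Nat.card G := by
  by_contra d5
  have h1 := dvd_of (a := 6) (b := 1) (c := 0) H.hp' H.a H.b d5
  have h3 := ce (G := G) (n := 192) [1, 2, 3, 4, 6, 8, 12, 16, 24, 32, 48, 64, 96, 192] h1 (by decide +kernel)
  have h5 := (by decide +kernel : ∀ n < 193, n ∣ 192 → 60 ≤ n → 3 ∣ n → n = 96 ∨ n = 192) _
    (Nat.lt_succ_of_le (Nat.le_of_dvd (by norm_num) h1)) h1 H.hN H.d3
  have h2 := fr [1, 2, 4, 8, 16, 32] (show 32 ∣ Nat.card G by omega)
  simp only [List.map, List.foldr, nm_one, H.m2, H.m32] at h2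
  have h4 : nm G 16 = 0 ∧ nm G 4 = 24 ∧ nm G 8 = 24 := by have := H.two; omega
  simp only [List.map, List.foldr, nm_one, H.m2, H.m32, h4, H.m3 H.d3, nm_zero H.m32 (by norm_num : 32 ∣ 64),
    nm_zero h4.1 (by norm_num : 16 ∣ 48), nm_zero h4.1 (by norm_num : 16 ∣ 96), nm_zero h4.1 (by norm_num : 16 ∣ 192)] at h3
  have := H.hk 6 (by norm_num)
  have := H.hk 12 (by norm_num)
  have := H.hk 24 (by norm_num)
  omega

theorem iso : Nonempty (G ≃* alternatingGroup (Fin 5)) := by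
  have d2 := H.d2
  have d3 := H.d3
  have d5 := H.d5
  have m2 := H.m2
  have m3 := H.m3 d3
  have m5 := H.m5 d5
  have m15 : nm G 15 = 0 := by
    have h1 := fr [1, 3, 5, 15] (show 15 ∣ Nat.card G by omega)
    simp only [List.map, List.foldr, nm_one] at h1
    have := H.hk 15 (by norm_num)
    omega
  have m6 : nm G 6 = 0 := by
    have h1 := fr [1, 2, 3, 6] (show 6 ∣ Nat.card G by omega)
    simp only [List.map, List.foldr, nm_one] at h1
    have : 5 ∣ nm G 6 := semi (a := 1) Nat.prime_five d5 (k := 6) (by norm_num) rfl (nm_zero m15 (by norm_num))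
    have := H.hk 6 (by norm_num)
    omega
  have hc : Nat.card G = 60 := le_antisymm (Nat.le_of_dvd (by norm_num) (dvd_of (a := 2) (b := 1) (c := 1) H.hp'
    (fun e => by have := semi Nat.prime_two e (k := 3) (by norm_num) rfl m6; omega) H.b
    fun e => by have := semi Nat.prime_five e (k := 3) (by norm_num) rfl m15; omega)) H.hN
  have h3 := ce (G := G) (n := 60) [1, 2, 3, 4, 5, 6, 10, 12, 15, 20, 30, 60] hc.dvd
  simp only [List.map, List.foldr, nm_one] at h3
  have := simple_of d5 (by omega) H.hp' (by omega) m15 (fun d hd h1 h2 => by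
    rw [hc, m3] at *
    exact (by decide : ∀ d < 61, d ∣ 60 ∧ ¬ 5 ∣ d ∧ 5 ∣ d - 1 → d = 1 ∨ d = 6 ∨ (¬ 3 ∣ 60 / d ∧ d < 20)) d
      (Nat.lt_succ_of_le (Nat.le_of_dvd (by norm_num) hd)) ⟨hd, h1, h2⟩) fun d hd => by
    rw [hc, m3, m5] at *
    exact (by decide : ∀ d < 61, d ∣ 60 → 24 < d → d = 60 ∨ (¬ 3 ∣ 60 / d ∧ d < 20 + 24)) d
      (Nat.lt_succ_of_le (Nat.le_of_dvd (by norm_num) hd)) hd
  exact Linear.nonempty_equiv_A5_of_simple hc

end H5

theorem five (h : ∀ k, nm G k = 0 ∨ nm G k ∈ ({1, 15, 20, 24} : Finset ℕ))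
    (h' : ∀ s ∈ ({1, 15, 20, 24} : Finset ℕ), ∃ k, nm G k = s) : Nonempty (G ≃* alternatingGroup (Fin 5)) :=
  H5.iso ⟨odd_two (h' 15 (by simp)) (by norm_num) (by norm_num), fun k hk => by
    have := even_nm (G := G) hk
    have := h k
    simp only [Finset.mem_insert, Finset.mem_singleton] at this
    omega, sum_le _ h', h' 20 (by simp)⟩

/-- The data for `A₆`. -/
structure H6 (G : Type*) [Group G] : Prop where
  m2 : nm G 2 = 45
  hk : ∀ k, 2 < k → nm G k = 0 ∨ nm G k = 80 ∨ nm G k = 90 ∨ nm G k = 144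
  hN : 360 ≤ Nat.card G

namespace H6

variable (H : H6 G)
include H

theorem d2 : 2 ∣ Nat.card G := nm_dvd (by have := H.m2; omega)

theorem hp (p : ℕ) (hp : p.Prime) (hd : p ∣ Nat.card G) :
    p = 2 ∨ (p = 3 ∧ nm G 3 = 80) ∨ (p = 5 ∧ nm G 5 = 144) ∨ (p = 7 ∧ nm G 7 = 90) := by
  by_cases e : p = 2
  · exact .inl e
  have h1 := prime_dvd hp hd
  have h2 := nm_prime hp hd
  have h3 := hp.two_le
  rcases (H.hk p (by omega)).resolve_left h2 with h4 | h4 | h4 <;> rw [h4] at h1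
  · obtain rfl := (Nat.prime_dvd_prime_iff_eq hp Nat.prime_three).1 (hp.dvd_of_dvd_pow (n := 4) h1.1)
    exact .inr (.inl ⟨rfl, h4⟩)
  · rcases (by decide : ∀ p < 92, 1 < p → p ∣ 1 + 90 ∧ p - 1 ∣ 90 → p = 7 ∨ p = 91) p
      (Nat.lt_succ_of_le (Nat.le_of_dvd (by norm_num) h1.1)) h3 h1 with rfl | rfl
    · exact .inr (.inr (.inr ⟨rfl, h4⟩))
    · norm_num at hp
  · rcases (by decide +kernel : ∀ p < 146, 1 < p → p ∣ 1 + 144 ∧ p - 1 ∣ 144 → p = 5 ∨ p = 145) p
      (Nat.lt_succ_of_le (Nat.le_of_dvd (by norm_num) h1.1)) h3 h1 with rfl | rfl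
    · exact .inr (.inr (.inl ⟨rfl, h4⟩))
    · norm_num at hp

theorem m3 (e : 3 ∣ Nat.card G) : nm G 3 = 80 := by have := H.hp 3 (by norm_num) e; omega

theorem m5 (e : 5 ∣ Nat.card G) : nm G 5 = 144 := by have := H.hp 5 (by norm_num) e; omega

theorem n7 : ¬ 7 ∣ Nat.card G := fun e => by
  have m7 : nm G 7 = 90 := by have := H.hp 7 (by norm_num) e; omega
  obtain ⟨n, h1, h2⟩ := syl (by norm_num : Nat.Prime 7) e fun e => by
    have h1 := fr [1, 7, 49] e (by decide +kernel)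
    have := H.hk 49 (by norm_num)
    have := td (G := G) 49 42
    simp only [List.map, List.foldr, nm_one] at h1
    omega
  obtain rfl : n = 15 := by omega
  have h3 := fr [1, 5, 7, 35] (show 35 ∣ Nat.card G by omega)
  have := H.hk 35 (by norm_num)
  have := td (G := G) 35 24
  simp only [List.map, List.foldr, nm_one, H.m5 (by omega)] at h3
  omega

theorem hp' (p : ℕ) (h1 : p.Prime) (h2 : p ∣ Nat.card G) : p = 2 ∨ p = 3 ∨ p = 5 := by
  have := H.hp p h1 h2
  have : p ≠ 7 := by rintro rfl; exact H.n7 h2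
  omega

theorem c : ¬ 25 ∣ Nat.card G := fun e => by
  have h1 := fr [1, 5, 25] e
  have m5 := H.m5 (by omega)
  have := H.hk 25 (by norm_num)
  have := td (G := G) 25 20
  simp only [List.map, List.foldr, nm_one] at h1
  have := cyc (G := G) Nat.prime_five (show nm G 25 ≠ 0 by omega) fun e => by
    have h2 := fr [1, 5, 25, 125] e (by decide +kernel)
    have := H.hk 125 (by norm_num)
    have := td (G := G) 125 100 (by decide +kernel)
    simp only [List.map, List.foldr, nm_one] at h2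
    omega
  change _ ≤ nm G 25 at this
  omega

theorem m4 (e : 4 ∣ Nat.card G) : nm G 4 = 90 := by
  have h1 := fr [1, 2, 4] e
  have := H.hk 4 (by norm_num)
  simp only [List.map, List.foldr, nm_one, H.m2] at h1
  omega

theorem a : ¬ 16 ∣ Nat.card G := fun e => by
  have h1 := fr [1, 2, 4, 8, 16] e
  have := H.hk 8 (by norm_num)
  have := H.hk 16 (by norm_num)
  have := td (G := G) 8 4
  have := td (G := G) 16 8
  simp only [List.map, List.foldr, nm_one, H.m2, H.m4 (by omega)] at h1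
  omega

theorem m9 (e : 27 ∣ Nat.card G) : nm G 9 = 0 := by
  have h1 := fr [1, 3, 9, 27] e
  have := H.hk 9 (by norm_num)
  have := H.hk 27 (by norm_num)
  have := td (G := G) 9 6
  have := td (G := G) 27 18
  simp only [List.map, List.foldr, nm_one, H.m3 (by omega)] at h1
  omega

theorem b : ¬ 243 ∣ Nat.card G := fun e => by
  have h1 := fr [1, 3, 9, 27, 81, 243] e (by decide +kernel)
  have m9 := H.m9 (by omega)
  simp only [List.map, List.foldr, nm_one, H.m3 (by omega), m9, nm_zero m9 (by norm_num : 9 ∣ 27),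
    nm_zero m9 (by norm_num : 9 ∣ 81), nm_zero m9 (by norm_num : 9 ∣ 243)] at h1
  omega

theorem d5 : 5 ∣ Nat.card G := by
  by_contra d5
  have h1 := dvd_of (a := 3) (b := 4) (c := 0) H.hp' H.a H.b d5
  have hc := (by decide +kernel : ∀ n < 649, n ∣ 648 → 360 ≤ n → n = 648) _
    (Nat.lt_succ_of_le (Nat.le_of_dvd (by norm_num) h1)) h1 H.hN
  have h3 := ce (G := G) (n := 648) [1, 2, 3, 4, 6, 8, 9, 12, 18, 24, 27, 36, 54, 72, 81, 108, 162, 216, 324, 648] h1
    (by decide +kernel)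
  have m9 := H.m9 (by omega)
  simp only [List.map, List.foldr, nm_one, H.m2, H.m3 (by omega), H.m4 (by omega), m9, hc, nm_zero m9 (by norm_num : 9 ∣ 18),
    nm_zero m9 (by norm_num : 9 ∣ 27), nm_zero m9 (by norm_num : 9 ∣ 36), nm_zero m9 (by norm_num : 9 ∣ 54),
    nm_zero m9 (by norm_num : 9 ∣ 72), nm_zero m9 (by norm_num : 9 ∣ 81), nm_zero m9 (by norm_num : 9 ∣ 108),
    nm_zero m9 (by norm_num : 9 ∣ 162), nm_zero m9 (by norm_num : 9 ∣ 216), nm_zero m9 (by norm_num : 9 ∣ 324),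
    nm_zero m9 (by norm_num : 9 ∣ 648)] at h3
  have := H.hk 6 (by norm_num)
  have := H.hk 8 (by norm_num)
  have := H.hk 12 (by norm_num)
  have := H.hk 24 (by norm_num)
  have := td (G := G) 8 4
  have := td (G := G) 12 4
  have := td (G := G) 24 8
  have z1 : nm G 6 = 0 → nm G 24 = 0 := fun e => nm_zero e (by norm_num)
  have z2 : nm G 8 = 0 → nm G 24 = 0 := fun e => nm_zero e (by norm_num)
  have z3 : nm G 12 = 0 → nm G 24 = 0 := fun e => nm_zero e (by norm_num)
  have h4 : nm G 24 = 0 ∧ nm G 8 = 144 := by omega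
  have := semi (a := 4) Nat.prime_three (hc ▸ by norm_num) (k := 8) (by norm_num) rfl h4.1
  omega

theorem iso : Nonempty (G ≃* alternatingGroup (Fin 6)) := by
  have d5 := H.d5
  have hN := H.hN
  have d3 : 3 ∣ Nat.card G := by
    by_contra e
    have := Nat.le_of_dvd (by norm_num) (dvd_of (a := 3) (b := 0) (c := 1) H.hp' H.a e H.c)
    omega
  have m2 := H.m2
  have m3 := H.m3 d3
  have m5 := H.m5 d5
  have m15 : nm G 15 = 0 := by
    have h1 := fr [1, 3, 5, 15] (show 15 ∣ Nat.card G by omega)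
    simp only [List.map, List.foldr, nm_one] at h1
    have := H.hk 15 (by norm_num)
    have := td (G := G) 15 8
    omega
  have hc : Nat.card G = 360 := le_antisymm (Nat.le_of_dvd (by norm_num) (dvd_of (a := 3) (b := 2) (c := 1) H.hp' H.a
    (fun e => by have := semi Nat.prime_three e (k := 5) (by norm_num) rfl m15; omega) H.c)) hN
  have m4 := H.m4 (by omega)
  have h3 := ce (G := G) (n := 360) [1, 2, 3, 4, 5, 6, 8, 9, 10, 12, 15, 18, 20, 24, 30, 36, 40, 45, 60, 72, 90, 120, 180, 360]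
    hc.dvd (by decide +kernel)
  simp only [List.map, List.foldr, nm_one] at h3
  have := simple_of d5 H.c H.hp' (by omega) m15 (fun d hd h1 h2 => by
    rw [hc, m3] at *
    exact (by decide +kernel : ∀ d < 361, d ∣ 360 ∧ ¬ 5 ∣ d ∧ 5 ∣ d - 1 → d = 1 ∨ d = 6 ∨ (¬ 3 ∣ 360 / d ∧ d < 80)) d
      (Nat.lt_succ_of_le (Nat.le_of_dvd (by norm_num) hd)) ⟨hd, h1, h2⟩) fun d hd => by
    rw [hc, m3, m5] at *
    exact (by decide +kernel : ∀ d < 361, d ∣ 360 → 144 < d → d = 360 ∨ (¬ 3 ∣ 360 / d ∧ d < 80 + 144)) d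
      (Nat.lt_succ_of_le (Nat.le_of_dvd (by norm_num) hd)) hd
  exact Cfsg.Agent.S0497.result hc

end H6

theorem six (h : ∀ k, nm G k = 0 ∨ nm G k ∈ ({1, 45, 80, 90, 144} : Finset ℕ))
    (h' : ∀ s ∈ ({1, 45, 80, 90, 144} : Finset ℕ), ∃ k, nm G k = s) : Nonempty (G ≃* alternatingGroup (Fin 6)) :=
  H6.iso ⟨odd_two (h' 45 (by simp)) (by norm_num) (by norm_num), fun k hk => by
    have := even_nm (G := G) hk
    have := h k
    simp only [Finset.mem_insert, Finset.mem_singleton] at this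
    omega, sum_le _ h'⟩

end Cfsg.Lib.Nse
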